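import Mathlib
import Cfsg.Prelude.Def_Local
import Cfsg.Prelude.Def_PLocal
import Cfsg.Prelude.Def_Transfer
import Cfsg.Agent.Lib.Helper11.ZJ
import Cfsg.Agent.Lib.Helper11.Quadratic
import Cfsg.Agent.Lib.Helper11.ThompsonOf
import Cfsg.Agent.Lib.Helper11.ThompsonSylow
import Cfsg.Agent.Lib.Helper11.NormStable
import Cfsg.Agent.Lib.Helper23.CentOmega
import Cfsg.Agent.Lib.Helper24.ClassTwo
import Cfsg.Agent.Lib.Helper2.FrattiniP
import Cfsg.Agent.Lib.Helper34.NPC
import Cfsg.Agent.Lib.Helper38.ZJe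
import Cfsg.Agent.Lib.Helper38.NPCMax

/-!
# `Z(J_e(S))` is normal in `p`-stable groups with `C_G(O_p(G)) ≤ O_p(G)` (no maximality)

`Cfsg.Agent.Lib.Helper38.ZJe.zje_normal` proves that `Z(J_e(S))` (`Cfsg.centerThompsonOf p S`,
`J_e` generated by the elementary abelian subgroups of largest order) is normal when the Sylow
subgroup `S` is a maximal subgroup.  Here the maximality is replaced by an induction on the order
of the group (`zje_normal_of_ih`), which gives the full ZJ-theorem for this version of `J`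
in the hereditary class of groups without `SL₂`-configurations (`zje_normal_noSL2`), in
particular for groups of odd order.
-/

set_option autoImplicit false
open scoped commutatorElement

namespace Cfsg.Agent.Lib.Helper10.ZJe

open Cfsg Cfsg.Agent.Lib Subgroup

universe u

/-- Frattini argument for the preimage of `O_p(G / C)`: `G = N_G(S ∩ L) C`. -/
theorem normalizer_sup_of_pCore {G : Type u} [Group G] [Finite G] {p : ℕ} [Fact p.Prime]
    (S : Sylow p G) (C : Subgroup G) [hC : C.Normal] :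
    normalizer ((((S : Subgroup G) ⊓
      (Cfsg.pCore p (G ⧸ C)).comap (QuotientGroup.mk' C) : Subgroup G)) : Set G) ⊔ C = ⊤ := by
  obtain ⟨L, hL⟩ : ∃ L : Subgroup G, L = (Cfsg.pCore p (G ⧸ C)).comap (QuotientGroup.mk' C) :=
    ⟨_, rfl⟩
  rw [← hL]
  have hLn : L.Normal := hL ▸ (Helper11.pCore_normal' p (G ⧸ C)).comap _
  have h1 := Helper11.frattini_inf S L
  rw [eq_top_iff, ← h1]
  apply sup_le le_sup_left
  intro l hl
  have hl' : (QuotientGroup.mk l : G ⧸ C) ∈ Cfsg.pCore p (G ⧸ C) := by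
    rw [hL] at hl; exact Subgroup.mem_comap.mp hl
  obtain ⟨s, hs, hsl⟩ := Helper11.exists_mem_sylow_mk_eq S C hl'
  have hsL : s ∈ L := by
    rw [hL, Subgroup.mem_comap]
    have : QuotientGroup.mk' C s = QuotientGroup.mk' C l := hsl
    rw [this]; exact hl'
  have hc : s⁻¹ * l ∈ C := QuotientGroup.eq.mp hsl
  have e : l = s * (s⁻¹ * l) := by group
  rw [e]
  exact Subgroup.mul_mem _
    (Subgroup.mem_sup_left (Subgroup.le_normalizer (Subgroup.mem_inf.mpr ⟨hs, hsL⟩)))
    (Subgroup.mem_sup_right hc)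

/-- If the normal subgroup `C` contains all `p'`-elements then `G = S C`. -/
theorem sup_eq_top_of_coprime_mem {G : Type u} [Group G] [Finite G] {p : ℕ} [Fact p.Prime]
    (S : Sylow p G) (C : Subgroup G) [hC : C.Normal]
    (h : ∀ y : G, (orderOf y).Coprime p → y ∈ C) : (S : Subgroup G) ⊔ C = ⊤ := by
  have hpp : p.Prime := Fact.out
  have hq : IsPGroup p (G ⧸ C) := by
    intro x
    obtain ⟨g, rfl⟩ := QuotientGroup.mk_surjective x
    have hpos : Nat.card G ≠ 0 := Nat.card_pos.ne'
    obtain ⟨k, m, hm, hkm⟩ := Nat.exists_eq_pow_mul_and_not_dvd hpos p hpp.ne_one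
    refine ⟨k, ?_⟩
    rw [← QuotientGroup.mk_pow, QuotientGroup.eq_one_iff]
    apply h
    have h1 : (g ^ p ^ k) ^ m = 1 := by
      rw [← pow_mul, ← hkm]; exact pow_card_eq_one'
    have h2 : orderOf (g ^ p ^ k) ∣ m := orderOf_dvd_of_pow_eq_one h1
    exact Nat.Coprime.coprime_dvd_left h2 ((Nat.Prime.coprime_iff_not_dvd hpp).mpr hm).symm
  have hsurj := QuotientGroup.mk'_surjective C
  have htop : (⊤ : Subgroup (G ⧸ C)) =
      ((S.mapSurjective hsurj : Sylow p (G ⧸ C)) : Subgroup (G ⧸ C)) :=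
    (S.mapSurjective hsurj).is_maximal' (hq.to_subgroup ⊤) le_top
  rw [eq_top_iff]
  intro g _
  have h1 : QuotientGroup.mk' C g ∈
      ((S.mapSurjective hsurj : Sylow p (G ⧸ C)) : Subgroup (G ⧸ C)) := by
    rw [← htop]; exact Subgroup.mem_top _
  rw [Sylow.coe_mapSurjective] at h1
  obtain ⟨s, hs, hsg⟩ := h1
  have hc : s⁻¹ * g ∈ C := QuotientGroup.eq.mp hsg
  have e : g = s * (s⁻¹ * g) := by group
  rw [e]
  exact Subgroup.mul_mem _ (Subgroup.mem_sup_left hs) (Subgroup.mem_sup_right hc)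

/-- **`Z(J_e(S))` is normal** in a `p`-stable group `G` (`p` odd) with `C_G(O_p(G)) ≤ O_p(G)`,
provided every proper subgroup containing `S` normalises it (induction step). -/
theorem zje_normal_of_ih {G : Type u} [Group G] [Finite G] {p : ℕ} [Fact p.Prime] (hp : p ≠ 2)
    (hc : centralizer (Cfsg.pCore p G : Set G) ≤ Cfsg.pCore p G)
    (hst : ∀ (V : Subgroup G) [V.Normal], IsPGroup p V → Cfsg.IsPStableOn p V)
    (S : Sylow p G)
    (hIH : ∀ M : Subgroup G, (S : Subgroup G) ≤ M → M ≠ ⊤ →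
      M ≤ normalizer (Cfsg.centerThompsonOf p (S : Subgroup G) : Set G)) :
    (Cfsg.centerThompsonOf p (S : Subgroup G)).Normal := by
  classical
  have hpp : p.Prime := Fact.out
  obtain ⟨Q, hQdef⟩ : ∃ Q : Subgroup G, Q = Cfsg.pCore p G := ⟨_, rfl⟩
  have hQn : Q.Normal := hQdef ▸ Helper11.pCore_normal' p G
  have hQp : IsPGroup p Q := hQdef ▸ Helper11.pCore_isPGroup' p G
  have hQS : Q ≤ (S : Subgroup G) := hQp.le_sylow_of_normal S
  have hcQ : centralizer (Q : Set G) ≤ Q := hQdef ▸ hc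
  have hQmax : ∀ N : Subgroup G, N.Normal → IsPGroup p N → N ≤ Q :=
    fun N hN hNp => hQdef ▸ Helper11.le_pCore' hN hNp
  obtain ⟨𝒜, h𝒜⟩ : ∃ 𝒜 : Set (Subgroup G), 𝒜 = Helper11.maxElemAbIn p (S : Subgroup G) :=
    ⟨_, rfl⟩
  obtain ⟨J, hJ⟩ : ∃ J : Subgroup G, J = Cfsg.thompsonSubgroupOf p (S : Subgroup G) := ⟨_, rfl⟩
  obtain ⟨W, hW⟩ : ∃ W : Subgroup G, W = J ⊓ centralizer (J : Set G) := ⟨_, rfl⟩
  have hWgoal : Cfsg.centerThompsonOf p (S : Subgroup G) = W := by
    rw [hW, hJ]; rfl
  rw [hWgoal] at hIH ⊢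
  have hJeq : J = sSup 𝒜 := by rw [hJ, h𝒜]; exact Helper11.thompsonSubgroupOf_eq p _
  have hJS : J ≤ (S : Subgroup G) := hJ ▸ Helper11.thompsonSubgroupOf_le p _
  have hAJ : ∀ A ∈ 𝒜, A ≤ J := fun A hA => hJeq ▸ le_sSup hA
  have hWJ : W ≤ J := hW ▸ inf_le_left
  have hWcJ : W ≤ centralizer (J : Set G) := hW ▸ inf_le_right
  have hWS : W ≤ (S : Subgroup G) := hWJ.trans hJS
  have hNJW : normalizer (J : Set G) ≤ normalizer (W : Set G) := by
    rw [hW]
    exact Helper23.le_normalizer_inf le_rfl (Helper23.normalizer_le_normalizer_centralizer J)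
  have hNSW : normalizer ((S : Subgroup G) : Set G) ≤ normalizer (W : Set G) :=
    le_trans (hJ ▸ Helper11.normalizer_le_normalizer_thompsonSubgroupOf p (S : Subgroup G)) hNJW
  have hSW : (S : Subgroup G) ≤ normalizer (W : Set G) := le_normalizer.trans hNSW
  -- `W` is abelian
  have hWc : ∀ x ∈ W, ∀ y ∈ W, x * y = y * x := by
    intro x hx y hy
    exact ((mem_centralizer_iff.mp (hWcJ hx)) y (hWJ hy)).symm
  have hWA : ∀ A ∈ 𝒜, ∀ w ∈ W, ∀ a ∈ A, w * a = a * w := by
    intro A hA w hw a ha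
    exact ((mem_centralizer_iff.mp (hWcJ hw)) a (hAJ A hA ha)).symm
  -- `W ≤ Q`
  have hWQ : W ≤ Q := by
    intro z hz
    have hquad : ⁅⁅Q, zpowers z⁆, zpowers z⁆ = ⊥ := by
      have h1 : ⁅Q, zpowers z⁆ ≤ W := by
        rw [Subgroup.commutator_le]
        intro q hq x hx
        have hx' : x ∈ W := (zpowers_le.mpr hz) hx
        have hqN := hSW (hQS hq)
        rw [commutatorElement_def]
        exact W.mul_mem ((mem_normalizer_iff.mp hqN x).mp hx') (W.inv_mem hx')
      rw [eq_bot_iff]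
      refine (Subgroup.commutator_mono h1 (zpowers_le.mpr hz)).trans ?_
      rw [Subgroup.commutator_le]
      intro x hx y hy
      rw [commutatorElement_eq_one_iff_mul_comm.mpr (hWc x hx y hy)]
      exact Subgroup.one_mem _
    have h2 := hst Q hQp z hquad
    have hLn : ((Cfsg.pCore p (G ⧸ centralizer (Q : Set G))).comap
        (QuotientGroup.mk' (centralizer (Q : Set G)))).Normal :=
      (Helper11.pCore_normal' p (G ⧸ centralizer (Q : Set G))).comap _
    have hLp : IsPGroup p ((Cfsg.pCore p (G ⧸ centralizer (Q : Set G))).comap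
        (QuotientGroup.mk' (centralizer (Q : Set G)))) := by
      apply (Helper11.pCore_isPGroup' p (G ⧸ centralizer (Q : Set G))).comap_of_ker_isPGroup
      rw [QuotientGroup.ker_mk']
      exact hQp.to_le hcQ
    exact hQmax _ hLn hLp (Subgroup.mem_comap.mpr h2)
  have hΦ := Helper11.replClass_elemAb p G
  have hab : ∀ A ∈ 𝒜, IsMulCommutative A := fun A hA => (h𝒜 ▸ hA).2.1.1
  have hAc : ∀ A ∈ 𝒜, ∀ x ∈ A, ∀ y ∈ A, x * y = y * x := by
    intro A hA x hx y hy
    have := hab A hA
    exact setLike_mul_comm hx hy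
  have hcl : ∀ A ∈ 𝒜, ∀ A' : Subgroup G, A' ≤ (S : Subgroup G) → Nat.card A' = Nat.card A →
      IsMulCommutative A' → Monoid.exponent A' ∣ Monoid.exponent A → A' ∈ 𝒜 := by
    intro A hA A' hA'S hcard hcomm hexp
    rw [h𝒜] at hA ⊢
    refine ⟨hA'S, hΦ.repl A hA.2.1 A' hcomm hexp, fun B hB hBe => ?_⟩
    rw [hcard]; exact hA.2.2 B hB hBe
  have hmemA : ∀ A ∈ 𝒜, ∀ x ∈ (S : Subgroup G), x ^ p = 1 → (∀ a ∈ A, x * a = a * x) → x ∈ A :=
    fun A hA x hxS hxp hxa => Helper38.ZJe.mem_of_mem_maxElemAbIn (h𝒜 ▸ hA) hxS hxp hxa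
  have hAS : ∀ A ∈ 𝒜, A ≤ (S : Subgroup G) := fun A hA => (h𝒜 ▸ hA).1
  -- Frattini argument for a quadratically acting member of `𝒜`
  have hfrat : ∀ (B : Subgroup G) [B.Normal], IsPGroup p B → ∀ A ∈ 𝒜,
      B ≤ normalizer (A : Set G) →
      A ≤ Q ∨ ∃ N : Subgroup G, N ≤ normalizer (W : Set G) ∧
        N ⊔ centralizer (B : Set G) = ⊤ := by
    intro B hBn hBp A hA hBNA
    obtain ⟨L, hL⟩ : ∃ L : Subgroup G, L = (Cfsg.pCore p (G ⧸ centralizer (B : Set G))).comap
        (QuotientGroup.mk' (centralizer (B : Set G))) := ⟨_, rfl⟩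
    have hLn : L.Normal := hL ▸ (Helper11.pCore_normal' p (G ⧸ centralizer (B : Set G))).comap _
    have hAL : A ≤ L := by
      intro a ha
      rw [hL]
      exact Subgroup.mem_comap.mpr
        (hst B hBp a (Helper38.ZJe.quad_of_le_normalizer A B (hAc A hA) hBNA a ha))
    have hsup := normalizer_sup_of_pCore S (centralizer (B : Set G))
    rw [← hL] at hsup
    by_cases hN : normalizer ((((S : Subgroup G) ⊓ L : Subgroup G)) : Set G) = ⊤
    · left
      have h1 : ((S : Subgroup G) ⊓ L).Normal := normalizer_eq_top_iff.mp hN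
      have h2 : (S : Subgroup G) ⊓ L ≤ Q := hQmax _ h1 (S.2.to_le inf_le_left)
      exact (le_inf (hAS A hA) hAL).trans h2
    · right
      refine ⟨_, ?_, hsup⟩
      apply hIH _ ?_ hN
      apply Helper23.le_normalizer_inf le_normalizer
      rw [normalizer_eq_top_iff.mpr hLn]; exact le_top
  -- Case 2: some member of `𝒜` lies in `Q`
  have case2 : (∃ A ∈ 𝒜, A ≤ Q) → W.Normal := by
    rintro ⟨A₁, hA₁, hA₁Q⟩
    have hA₁' : A₁ ∈ Helper11.maxElemAbIn p (S : Subgroup G) := h𝒜 ▸ hA₁
    have hA₁Q' : A₁ ∈ Helper11.maxElemAbIn p Q := Helper11.maxElemAbIn_of_le hQS hA₁' hA₁Q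
    have hsub : ∀ A ∈ Helper11.maxElemAbIn p Q, A ∈ 𝒜 := by
      intro A hA
      rw [h𝒜]
      refine ⟨hA.1.trans hQS, hA.2.1, fun B hB hBe => ?_⟩
      exact (hA₁'.2.2 B hB hBe).trans (hA.2.2 A₁ hA₁Q hA₁'.2.1)
    obtain ⟨Λ, hΛ⟩ : ∃ Λ : Subgroup G, Λ = sInf (Helper11.maxElemAbIn p Q) := ⟨_, rfl⟩
    have hΛn : Λ.Normal := by
      rw [← normalizer_eq_top_iff, eq_top_iff, hΛ]
      refine le_trans ?_ (Helper11.normalizer_le_normalizer_sInf_maxIn hΦ.map_equiv Q)
      rw [normalizer_eq_top_iff.mpr hQn]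
    have hΛA₁ : Λ ≤ A₁ := hΛ ▸ sInf_le hA₁Q'
    have hΛQ : Λ ≤ Q := hΛA₁.trans hA₁Q
    have hΛS : Λ ≤ (S : Subgroup G) := hΛQ.trans hQS
    have hΛp : IsPGroup p Λ := hQp.to_le hΛQ
    have hΛc : ∀ x ∈ Λ, ∀ y ∈ Λ, x * y = y * x := fun x hx y hy =>
      hAc A₁ hA₁ x (hΛA₁ hx) y (hΛA₁ hy)
    have hCΛn : (centralizer (Λ : Set G)).Normal := inferInstance
    rw [← normalizer_eq_top_iff]
    by_cases hG₂ : (S : Subgroup G) ⊔ centralizer (Λ : Set G) = ⊤
    · -- `p'`-elements centralise `D = C_Q(J_e(Q))`, which contains `W`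
      obtain ⟨D, hD⟩ : ∃ D : Subgroup G,
          D = Q ⊓ centralizer (Cfsg.thompsonSubgroupOf p Q : Set G) := ⟨_, rfl⟩
      have hJQn : (Cfsg.thompsonSubgroupOf p Q).Normal := by
        rw [← normalizer_eq_top_iff, eq_top_iff]
        refine le_trans ?_ (Helper11.normalizer_le_normalizer_thompsonSubgroupOf p Q)
        rw [normalizer_eq_top_iff.mpr hQn]
      have hDn : D.Normal := by rw [hD]; infer_instance
      have hDp : IsPGroup p D := hQp.to_le (hD ▸ inf_le_left)
      have hJQJ : Cfsg.thompsonSubgroupOf p Q ≤ J := by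
        rw [hJeq, Helper11.thompsonSubgroupOf_eq]
        exact sSup_le (fun A hA => le_sSup (hsub A hA))
      have hWD : W ≤ D := by
        intro w hw
        rw [hD]
        exact ⟨hWQ hw, Subgroup.centralizer_le (SetLike.coe_subset_coe.mpr hJQJ) (hWcJ hw)⟩
      have hcent : ∀ y : G, (orderOf y).Coprime p → y ∈ centralizer (D : Set G) := by
        intro y hy
        have hyC : y ∈ centralizer (Λ : Set G) :=
          Helper38.ZJe.mem_of_coprime_of_sup_eq_top S _ hG₂ y hy
        have hyN : y ∈ normalizer (D : Set G) := by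
          rw [normalizer_eq_top_iff.mpr hDn]; exact mem_top y
        rw [mem_centralizer_iff]
        intro w hw
        refine (Helper23.conj_eq_of_fix_order_p hp D hDp y hyN hy ?_ w hw).symm
        intro x hx hxo
        have hx' : x ∈ Q ⊓ centralizer (Cfsg.thompsonSubgroupOf p Q : Set G) := hD ▸ hx
        have hxΛ : x ∈ Λ := by
          rw [hΛ, Subgroup.mem_sInf]
          intro A hA
          apply Helper38.ZJe.mem_of_mem_maxElemAbIn hA hx'.1
            (by rw [← hxo]; exact pow_orderOf_eq_one x)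
          intro a ha
          exact ((mem_centralizer_iff.mp hx'.2) a (Helper11.le_thompsonSubgroupOf hA ha)).symm
        exact ((mem_centralizer_iff.mp hyC) x hxΛ).symm
      have hCDn : (centralizer (D : Set G)).Normal := inferInstance
      have hsupD := sup_eq_top_of_coprime_mem S (centralizer (D : Set G)) hcent
      rw [eq_top_iff, ← hsupD]
      apply sup_le hSW
      exact (Subgroup.centralizer_le (SetLike.coe_subset_coe.mpr hWD)).trans
        (Subgroup.centralizer_le_normalizer _)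
    · have hCΛW : centralizer (Λ : Set G) ≤ normalizer (W : Set G) :=
        le_sup_right.trans (hIH _ le_sup_left hG₂)
      by_cases hall : ∀ A ∈ 𝒜, Λ ≤ A
      · -- `J` centralises `Λ`
        have hJC : J ≤ centralizer (Λ : Set G) := by
          rw [hJeq]
          apply sSup_le
          intro A hA a ha
          rw [mem_centralizer_iff]
          intro x hx
          exact hAc A hA x (hall A hA hx) a ha
        have hfr := Helper11.frattini_inf S (centralizer (Λ : Set G))
        have hJS₂ : Cfsg.thompsonSubgroupOf p (S : Subgroup G) ≤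
            (S : Subgroup G) ⊓ centralizer (Λ : Set G) := hJ ▸ le_inf hJS hJC
        have hJ₂ : Cfsg.thompsonSubgroupOf p ((S : Subgroup G) ⊓ centralizer (Λ : Set G)) = J := by
          rw [hJ]
          exact Helper11.thompsonSubgroupOf_eq_of_le inf_le_left hJS₂
        have hN₂ : normalizer ((((S : Subgroup G) ⊓ centralizer (Λ : Set G) : Subgroup G)) : Set G)
            ≤ normalizer (W : Set G) := by
          refine le_trans ?_ hNJW
          have := Helper11.normalizer_le_normalizer_thompsonSubgroupOf p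
            ((S : Subgroup G) ⊓ centralizer (Λ : Set G))
          rwa [hJ₂] at this
        rw [eq_top_iff, ← hfr]
        exact sup_le hN₂ hCΛW
      · push Not at hall
        obtain ⟨A, hA, hΛA⟩ := hall
        have hΛN : (S : Subgroup G) ≤ normalizer (Λ : Set G) := by
          rw [normalizer_eq_top_iff.mpr hΛn]; exact le_top
        have hcomm0 : ⁅Λ, Λ⁆ ≤ A := by
          rw [Subgroup.commutator_le]
          intro x hx y hy
          rw [commutatorElement_eq_one_iff_mul_comm.mpr (hΛc x hx y hy)]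
          exact Subgroup.one_mem _
        obtain ⟨A', hA', hΛA', hΛNA'⟩ := Helper11.repl_ambient hp (S : Subgroup G) S.2 𝒜 hab hcl
          Λ hΛS hΛN ⟨A, hA, hAS A hA, hcomm0, hΛA⟩
        have hA'Q : ¬ A' ≤ Q := fun h =>
          hΛA' (hΛ ▸ sInf_le (Helper11.maxElemAbIn_of_le hQS (h𝒜 ▸ hA') h))
        rcases hfrat Λ hΛp A' hA' hΛNA' with h | ⟨N, hNW, hsup⟩
        · exact absurd h hA'Q
        · rw [eq_top_iff, ← hsup]
          exact sup_le hNW hCΛW
  -- the main induction on normal `p`-subgroups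
  have key : ∀ (n : ℕ) (B : Subgroup G), B.Normal → IsPGroup p B → Nat.card B ≤ n →
      (W ⊓ B).Normal := by
    intro n
    induction n using Nat.strong_induction_on with
    | _ n ih =>
    intro B hBn hBp hBcard
    by_cases hBbot : B = ⊥
    · rw [hBbot, inf_bot_eq]; infer_instance
    have hBS : B ≤ (S : Subgroup G) := hBp.le_sylow_of_normal S
    have hBN : (S : Subgroup G) ≤ normalizer (B : Set G) := by
      rw [normalizer_eq_top_iff.mpr hBn]; exact le_top
    obtain ⟨L, hL⟩ : ∃ L : Subgroup G, L = normalClosure ((W ⊓ B : Subgroup G) : Set G) :=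
      ⟨_, rfl⟩
    have hLn : L.Normal := hL ▸ normalClosure_normal
    have hLB : L ≤ B := hL ▸ normalClosure_le_normal (fun x hx => hx.2)
    have hUL : W ⊓ B ≤ L := hL ▸ subset_normalClosure
    have hsmall : ∀ B' : Subgroup G, B'.Normal → B' ≤ B → B' ≠ B → (W ⊓ B').Normal := by
      intro B' hB'n hle hne
      have hlt : Nat.card B' < Nat.card B :=
        Helper54.card_lt_card_of_lt (lt_of_le_of_ne hle hne)
      exact ih (Nat.card B') (lt_of_lt_of_le hlt hBcard) B' hB'n (hBp.to_le hle) le_rfl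
    by_cases hLeq : L = B
    · have hBL : B ≤ L := hLeq.ge
      -- the derived subgroup
      have hB'n : (⁅B, B⁆).Normal := Subgroup.commutator_normal B B
      have hB'B : ⁅B, B⁆ ≤ B := Subgroup.commutator_le_left B B
      have hB'ne : ⁅B, B⁆ ≠ B := by
        intro heq
        have : Nontrivial B := (Subgroup.nontrivial_iff_ne_bot B).mpr hBbot
        have : Group.IsNilpotent B := hBp.isNilpotent
        have hlt := Group.IsSolvable.commutator_lt_top_of_nontrivial B
        apply hlt.ne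
        rw [eq_top_iff]
        intro x _
        have hx : (x : G) ∈ ⁅B, B⁆ := by rw [heq]; exact x.2
        rw [← Subgroup.map_subtype_commutator] at hx
        obtain ⟨x', hx', hxx⟩ := hx
        have hxe : x' = x := Subtype.ext hxx
        rw [← hxe]; exact hx'
      have hWB' : (W ⊓ ⁅B, B⁆).Normal := hsmall _ hB'n hB'B hB'ne
      have h_i : ∀ u ∈ ((W ⊓ B : Subgroup G) : Set G), ∀ b ∈ B, ⁅u, b⁆ ∈ W ⊓ ⁅B, B⁆ := by
        intro u hu b hb
        refine ⟨?_, Subgroup.commutator_mem_commutator hu.2 hb⟩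
        have hbN := hSW (hBS hb)
        have e : ⁅u, b⁆ = u * (b * u⁻¹ * b⁻¹) := by
          rw [commutatorElement_def]; group
        rw [e]
        exact W.mul_mem hu.1 ((mem_normalizer_iff.mp hbN u⁻¹).mp (W.inv_mem hu.1))
      have h_ii : ⁅B, B⁆ ≤ W ⊓ ⁅B, B⁆ := by
        have := Helper38.ZJe.comm_normalClosure_le (W ⊓ ⁅B, B⁆) ((W ⊓ B : Subgroup G) : Set G) B h_i
        rw [← hL] at this
        exact (Subgroup.commutator_mono hBL le_rfl).trans this
      have hB'W : ⁅B, B⁆ ≤ W := h_ii.trans inf_le_left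
      have hBcB' : B ≤ centralizer ((⁅B, B⁆ : Subgroup G) : Set G) := by
        refine hBL.trans (hL ▸ normalClosure_le_normal ?_)
        intro u hu
        rw [SetLike.mem_coe, mem_centralizer_iff]
        intro c hc
        exact hWc c (hB'W hc) u hu.1
      -- the Frattini subgroup
      obtain ⟨F, hF⟩ : ∃ F : Subgroup G, F = (frattini ↥B).map B.subtype := ⟨_, rfl⟩
      have hFn : F.Normal := hF ▸ ConjAct.normal_of_characteristic_of_normal
      have hFB : F ≤ B := hF ▸ Subgroup.map_subtype_le _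
      have hFne : F ≠ B := by
        intro heq
        have : Nontrivial B := (Subgroup.nontrivial_iff_ne_bot B).mpr hBbot
        have h1 : frattini ↥B = ⊤ := by
          rw [eq_top_iff]
          intro x _
          have hx : (x : G) ∈ F := by rw [heq]; exact x.2
          rw [hF] at hx
          obtain ⟨x', hx', hxx⟩ := hx
          have hxe : x' = x := Subtype.ext hxx
          rw [← hxe]; exact hx'
        have h2 : (⊥ : Subgroup ↥B) = ⊤ := frattini_nongenerating (by rw [h1]; simp)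
        exact bot_ne_top h2
      have hWF : (W ⊓ F).Normal := hsmall F hFn hFB hFne
      have hupow : ∀ u ∈ W ⊓ B, u ^ p ∈ W ⊓ F := by
        intro u hu
        refine ⟨W.pow_mem hu.1 p, ?_⟩
        rw [hF]
        exact ⟨⟨u, hu.2⟩ ^ p, Helper2.pow_mem_frattini hBp ⟨u, hu.2⟩, rfl⟩
      have hWFc : B ≤ centralizer ((W ⊓ F : Subgroup G) : Set G) := by
        refine hBL.trans (hL ▸ normalClosure_le_normal ?_)
        intro u hu
        rw [SetLike.mem_coe, mem_centralizer_iff]
        intro c hc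
        exact hWc c hc.1 u hu.1
      have hXn : ∀ (c : G), c ∈ W → c ^ p = 1 → c ∈ sInf 𝒜 := by
        intro c hcW hpow
        rw [Subgroup.mem_sInf]
        intro A hA
        exact hmemA A hA _ (hWS hcW) hpow (fun a ha => hWA A hA _ hcW a ha)
      -- `Y`: the elements of order dividing `p` in `[B,B]`
      have h_vi : ∀ u ∈ ((W ⊓ B : Subgroup G) : Set G), ∀ b ∈ B,
          ⁅u, b⁆ ∈ W ⊓ ⁅B, B⁆ ∧ ⁅u, b⁆ ^ p = 1 := by
        intro u hu b hb
        have hcB' : ⁅u, b⁆ ∈ ⁅B, B⁆ := (h_i u hu b hb).2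
        have hcomm : Commute ⁅u, b⁆ u := (mem_centralizer_iff.mp (hBcB' hu.2)) ⁅u, b⁆ hcB'
        refine ⟨h_i u hu b hb, ?_⟩
        rw [← Helper24.commutatorElement_pow_left_of_commute u b hcomm p,
          commutatorElement_eq_one_iff_mul_comm]
        exact (mem_centralizer_iff.mp (hWFc hb)) (u ^ p) (hupow u hu)
      obtain ⟨Y, hY⟩ : ∃ Y : Subgroup G, (Y : Set G) = {c | c ∈ W ⊓ ⁅B, B⁆ ∧ c ^ p = 1} := by
        refine ⟨{ carrier := {c | c ∈ W ⊓ ⁅B, B⁆ ∧ c ^ p = 1}
                  mul_mem' := ?_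
                  one_mem' := ⟨Subgroup.one_mem _, one_pow p⟩
                  inv_mem' := ?_ }, rfl⟩
        · rintro x y ⟨hx, hxp⟩ ⟨hy, hyp⟩
          refine ⟨Subgroup.mul_mem _ hx hy, ?_⟩
          have hxy : Commute x y := hWc x hx.1 y hy.1
          rw [hxy.mul_pow, hxp, hyp, one_mul]
        · rintro x ⟨hx, hxp⟩
          exact ⟨Subgroup.inv_mem _ hx, by rw [inv_pow, hxp, inv_one]⟩
      have hYmem : ∀ c : G, c ∈ Y ↔ c ∈ W ⊓ ⁅B, B⁆ ∧ c ^ p = 1 := by
        intro c
        rw [← SetLike.mem_coe, hY]; rfl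
      have hYn : Y.Normal := by
        constructor
        intro c hc g
        rw [hYmem] at hc ⊢
        refine ⟨hWB'.conj_mem c hc.1 g, ?_⟩
        rw [conj_pow, hc.2]; group
      have hB'Y : ⁅B, B⁆ ≤ Y := by
        have := Helper38.ZJe.comm_normalClosure_le Y ((W ⊓ B : Subgroup G) : Set G) B
          (fun u hu b hb => (hYmem _).mpr (h_vi u hu b hb))
        rw [← hL] at this
        exact (Subgroup.commutator_mono hBL le_rfl).trans this
      have hB'X : ⁅B, B⁆ ≤ sInf 𝒜 := by
        intro c hc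
        have h1 := (hYmem c).mp (hB'Y hc)
        exact hXn c h1.1.1 h1.2
      by_cases hBX : ∀ A ∈ 𝒜, B ≤ A
      · have hBW : B ≤ W := by
          intro b hb
          obtain ⟨A₀, hA₀⟩ := Helper11.maxElemAbIn_nonempty p (S : Subgroup G)
          rw [← h𝒜] at hA₀
          rw [hW]
          refine ⟨hAJ A₀ hA₀ (hBX A₀ hA₀ hb), ?_⟩
          have h1 : sSup 𝒜 ≤ centralizer ((zpowers b : Subgroup G) : Set G) := by
            apply sSup_le
            intro A hA a ha
            rw [mem_centralizer_iff]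
            intro h hh
            exact hAc A hA h ((zpowers_le.mpr (hBX A hA hb)) hh) a ha
          rw [hJeq]
          exact (Subgroup.le_centralizer_iff.mp h1) (mem_zpowers b)
        rw [inf_eq_right.mpr hBW]; exact hBn
      · push Not at hBX
        obtain ⟨U₀, hU₀, hBU₀⟩ := hBX
        obtain ⟨A, hA, hBA, hBNA⟩ := Helper11.repl_ambient hp (S : Subgroup G) S.2 𝒜 hab hcl
          B hBS hBN ⟨U₀, hU₀, hAS U₀ hU₀, hB'X.trans (sInf_le hU₀), hBU₀⟩
        rcases hfrat B hBp A hA hBNA with hAQ | ⟨N, hNW, hsup⟩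
        · have hWn : W.Normal := case2 ⟨A, hA, hAQ⟩
          infer_instance
        · rw [← normalizer_eq_top_iff, eq_top_iff, ← hsup]
          apply sup_le
          · apply Helper23.le_normalizer_inf hNW
            rw [normalizer_eq_top_iff.mpr hBn]; exact le_top
          · exact (Subgroup.centralizer_le (SetLike.coe_subset_coe.mpr inf_le_right)).trans
              (Subgroup.centralizer_le_normalizer _)
    · have h1 := hsmall L hLn hLB hLeq
      have h2 : W ⊓ B = W ⊓ L := le_antisymm (le_inf inf_le_left hUL) (inf_le_inf_left W hLB)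
      rw [h2]; exact h1
  have := key (Nat.card Q) Q hQn hQp le_rfl
  rwa [inf_eq_left.mpr hWQ] at this

/-- A subgroup containing the Sylow subgroup `S` inherits `C(O_p) ≤ O_p`. -/
theorem centralizer_pCore_le_of_sylow_le {G : Type u} [Group G] [Finite G] {p : ℕ} [Fact p.Prime]
    (hc : centralizer (Cfsg.pCore p G : Set G) ≤ Cfsg.pCore p G) (S : Sylow p G)
    (M : Subgroup G) (hSM : (S : Subgroup G) ≤ M) :
    centralizer (Cfsg.pCore p ↥M : Set ↥M) ≤ Cfsg.pCore p ↥M := by
  have hQn : (Cfsg.pCore p G).Normal := Helper11.pCore_normal' p G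
  have hQp : IsPGroup p (Cfsg.pCore p G) := Helper11.pCore_isPGroup' p G
  have hQS : Cfsg.pCore p G ≤ (S : Subgroup G) := hQp.le_sylow_of_normal S
  have hQ'n : ((Cfsg.pCore p G).subgroupOf M).Normal := hQn.subgroupOf M
  have hQ'p : IsPGroup p ((Cfsg.pCore p G).subgroupOf M) := hQp.comap_subtype
  have hQ' : (Cfsg.pCore p G).subgroupOf M ≤ Cfsg.pCore p ↥M := Helper11.le_pCore' hQ'n hQ'p
  intro x hx
  apply hQ'
  rw [Subgroup.mem_subgroupOf]
  apply hc
  rw [mem_centralizer_iff]
  intro q hq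
  have hqM : q ∈ M := hSM (hQS hq)
  have h1 := (mem_centralizer_iff.mp hx) ⟨q, hqM⟩ (hQ' (Subgroup.mem_subgroupOf.mpr hq))
  exact congrArg Subtype.val h1

/-- **ZJ-theorem for `J_e`**: `Z(J_e(S))` is normal in every finite group `G` without
`SL₂`-configurations (`Helper11.NoSL2`, e.g. commutative `2`-subgroups) with
`C_G(O_p(G)) ≤ O_p(G)`, `p` odd. -/
theorem zje_normal_noSL2 {p : ℕ} [Fact p.Prime] (hp : p ≠ 2) :
    ∀ (n : ℕ) (G : Type u) [Group G] [Finite G], Nat.card G ≤ n →
      Helper11.NoSL2 p (⊤ : Subgroup G) →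
      centralizer (Cfsg.pCore p G : Set G) ≤ Cfsg.pCore p G →
      ∀ S : Sylow p G, (Cfsg.centerThompsonOf p (S : Subgroup G)).Normal := by
  intro n
  induction n with
  | zero =>
    intro G _ _ hcard
    have := Nat.card_pos (α := G)
    omega
  | succ n ih =>
    intro G _ _ hcard hns hc S
    apply zje_normal_of_ih hp hc
      (fun V _ hV => Helper11.isPStableOn_pGroup_of_noSL2 hp hns V hV) S
    intro M hSM hM
    have hcardM : Nat.card M ≤ n := by
      have h1 : Nat.card M < Nat.card G :=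
        lt_of_le_of_ne (Subgroup.card_le_card_group M)
          (fun h => hM ((Subgroup.card_eq_iff_eq_top M).mp h))
      omega
    have hnsM : Helper11.NoSL2 p (⊤ : Subgroup ↥M) := (hns.mono le_top).subtype
    have hcM := centralizer_pCore_le_of_sylow_le hc S M hSM
    have h1 := ih ↥M hcardM hnsM hcM (S.subtype hSM)
    have h2 : (Cfsg.centerThompsonOf p ((S.subtype hSM : Sylow p ↥M) : Subgroup ↥M)).map M.subtype =
        Cfsg.centerThompsonOf p (S : Subgroup G) := by
      rw [← Helper38.NPCMax.centerThompsonOf_map p M.subtype M.subtype_injective,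
        Sylow.coe_subtype, Subgroup.subgroupOf_map_subtype, inf_eq_left.mpr hSM]
    rw [← h2]
    have h3 := Subgroup.le_normalizer_map (H := Cfsg.centerThompsonOf p
      ((S.subtype hSM : Sylow p ↥M) : Subgroup ↥M)) M.subtype
    rw [normalizer_eq_top_iff.mpr h1, ← MonoidHom.range_eq_map, Subgroup.range_subtype] at h3
    exact h3

end Cfsg.Agent.Lib.Helper10.ZJe
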