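import Mathlib

set_option autoImplicit false

/-!
Minimal normal subgroups of solvable groups, and regular normal subgroups of primitive groups.
-/

namespace Cfsg.Agent.Lib.Helper10

open scoped commutatorElement

variable {G : Type*} [Group G]

/-- A minimal normal subgroup of a solvable group is commutative. -/
theorem comm_of_minimal_normal_solvable [Group.IsSolvable G] (M : Subgroup G) [M.Normal]
    (hmin : ∀ K : Subgroup G, K.Normal → K ≤ M → K = ⊥ ∨ K = M) :
    ∀ x ∈ M, ∀ y ∈ M, x * y = y * x := by
  have hKn : ((_root_.commutator M).map M.subtype).Normal :=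
    ConjAct.normal_of_characteristic_of_normal
  rcases hmin _ hKn (Subgroup.map_subtype_le _) with h | h
  · have h0 : _root_.commutator M = ⊥ :=
      (Subgroup.map_eq_bot_iff_of_injective _ M.subtype_injective).1 h
    intro x hx y hy
    have hmem : ⁅(⟨x, hx⟩ : M), ⟨y, hy⟩⁆ ∈ _root_.commutator M :=
      Subgroup.commutator_mem_commutator (Subgroup.mem_top _) (Subgroup.mem_top _)
    rw [h0, Subgroup.mem_bot, commutatorElement_eq_one_iff_mul_comm] at hmem
    exact congrArg Subtype.val hmem
  · have h1 : _root_.commutator M = ⊤ := by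
      apply Subgroup.map_injective M.subtype_injective
      rw [h, ← MonoidHom.range_eq_map, Subgroup.range_subtype]
    rcases subsingleton_or_nontrivial M with hs | hn
    · intro x hx y hy
      have : (⟨x, hx⟩ : M) = ⟨y, hy⟩ := Subsingleton.elim _ _
      have hxy : x = y := congrArg Subtype.val this
      rw [hxy]
    · exact absurd h1 (ne_of_lt (Group.IsSolvable.commutator_lt_top_of_nontrivial M))

/-- A minimal normal subgroup of a finite solvable group has prime power order. -/
theorem exists_prime_pow_card_of_minimal_normal [Finite G] [Group.IsSolvable G]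
    (M : Subgroup G) [M.Normal] (hM : M ≠ ⊥)
    (hmin : ∀ K : Subgroup G, K.Normal → K ≤ M → K = ⊥ ∨ K = M) :
    ∃ p d : ℕ, p.Prime ∧ 0 < d ∧ Nat.card M = p ^ d := by
  have hcomm := comm_of_minimal_normal_solvable M hmin
  have hcard : Nat.card M ≠ 1 := fun h => hM (Subgroup.card_eq_one.1 h)
  obtain ⟨p, hp, hpd⟩ := Nat.exists_prime_and_dvd hcard
  have := Fact.mk hp
  obtain ⟨P⟩ : Nonempty (Sylow p M) := inferInstance
  have hPn : (P : Subgroup M).Normal := by
    constructor
    intro n hn g
    have e : g * n * g⁻¹ = n := by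
      apply Subtype.ext
      have h1 := hcomm g g.2 n n.2
      show (g : G) * n * (g : G)⁻¹ = n
      rw [h1]; group
    rw [e]; exact hn
  have hPc : (P : Subgroup M).Characteristic := Sylow.characteristic_of_normal P hPn
  have hKn : ((P : Subgroup M).map M.subtype).Normal :=
    ConjAct.normal_of_characteristic_of_normal
  rcases hmin _ hKn (Subgroup.map_subtype_le _) with h | h
  · exfalso
    exact P.ne_bot_of_dvd_card hpd
      ((Subgroup.map_eq_bot_iff_of_injective _ M.subtype_injective).1 h)
  · have hPtop : (P : Subgroup M) = ⊤ := by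
      apply Subgroup.map_injective M.subtype_injective
      rw [h, ← MonoidHom.range_eq_map, Subgroup.range_subtype]
    have hMp : IsPGroup p M := by
      intro g
      have hg : g ∈ (P : Subgroup M) := by rw [hPtop]; exact Subgroup.mem_top _
      obtain ⟨k, hk⟩ := P.2 ⟨g, hg⟩
      exact ⟨k, congrArg Subtype.val hk⟩
    obtain ⟨d, hd⟩ := IsPGroup.iff_card.1 hMp
    refine ⟨p, d, hp, ?_, hd⟩
    rcases Nat.eq_zero_or_pos d with h0 | h0
    · rw [h0, pow_zero] at hd
      exact absurd hd hcard
    · exact h0

variable {Ω : Type*} [MulAction G Ω]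

/-- A nontrivial normal subgroup of a faithful primitive group is transitive. -/
theorem isPretransitive_of_normal_of_preprimitive [FaithfulSMul G Ω]
    (hprim : MulAction.IsPreprimitive G Ω) (M : Subgroup G) [M.Normal] (hM : M ≠ ⊥) :
    MulAction.IsPretransitive M Ω := by
  apply MulAction.IsQuasiPreprimitive.isPretransitive_of_normal
  intro hfix
  apply hM
  rw [eq_bot_iff]
  intro m hm
  rw [Subgroup.mem_bot]
  apply FaithfulSMul.eq_of_smul_eq_smul (α := Ω)
  intro ω
  have hω : ω ∈ MulAction.fixedPoints M Ω := by rw [hfix]; trivial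
  have := hω ⟨m, hm⟩
  rw [one_smul]
  exact this

/-- An element fixing a point and centralizing a transitive subgroup is trivial. -/
theorem eq_one_of_fix_of_centralizes [FaithfulSMul G Ω] (M : Subgroup G)
    [MulAction.IsPretransitive M Ω] (ω : Ω) {h : G} (hfix : h • ω = ω)
    (hc : h ∈ Subgroup.centralizer (M : Set G)) : h = 1 := by
  apply FaithfulSMul.eq_of_smul_eq_smul (α := Ω)
  intro ω'
  obtain ⟨n, rfl⟩ := MulAction.exists_smul_eq M ω ω'
  have hn : (n : G) * h = h * n := hc n n.2
  calc h • (n • ω) = (h * (n : G)) • ω := (mul_smul h (n : G) ω).symm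
    _ = ((n : G) * h) • ω := by rw [hn]
    _ = (n : G) • (h • ω) := mul_smul _ _ _
    _ = (n : G) • ω := by rw [hfix]
    _ = (1 : G) • (n • ω) := (one_smul G _).symm

/-- A commutative transitive subgroup of a faithful group is regular. -/
theorem stabilizer_eq_bot_of_comm_transitive [FaithfulSMul G Ω] (M : Subgroup G)
    (hcomm : ∀ x ∈ M, ∀ y ∈ M, x * y = y * x) [MulAction.IsPretransitive M Ω] (ω : Ω) :
    MulAction.stabilizer M ω = ⊥ := by
  rw [eq_bot_iff]
  intro m hm
  rw [Subgroup.mem_bot]
  apply Subtype.ext
  refine eq_one_of_fix_of_centralizes M ω (h := (m : G)) hm ?_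
  rw [Subgroup.mem_centralizer_iff]
  intro x hx
  exact hcomm x hx m m.2

/-- A regular subgroup has as many elements as there are points. -/
theorem card_eq_of_regular (M : Subgroup G) [MulAction.IsPretransitive M Ω] (ω : Ω)
    (hstab : MulAction.stabilizer M ω = ⊥) : Nat.card Ω = Nat.card M := by
  have hbij : Function.Bijective (fun m : M => m • ω) := by
    constructor
    · intro m m' h
      have h1 : m'⁻¹ * m ∈ MulAction.stabilizer M ω := by
        rw [MulAction.mem_stabilizer_iff, mul_smul]
        have h' : m • ω = m' • ω := h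
        rw [h', inv_smul_smul]
      rw [hstab, Subgroup.mem_bot] at h1
      calc m = m' * (m'⁻¹ * m) := by group
        _ = m' := by rw [h1, mul_one]
    · intro ω'
      exact MulAction.exists_smul_eq M ω ω'
  exact (Nat.card_congr (Equiv.ofBijective _ hbij)).symm

end Cfsg.Agent.Lib.Helper10
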